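import Groth.Agent.CohBase.Push
import Groth.Agent.CohBase.Leray
import Mathlib.Topology.Separation.DisjointCover
import Groth.Prelude.Def_CohTop

/-!
# Sheaves on profinite spaces are acyclic
-/

set_option autoImplicit false
set_option linter.style.haveILetI false

universe u

open CategoryTheory CategoryTheory.Limits Opposite TopologicalSpace Abelian

namespace Groth.Agent.ProfiniteCoh

open CohBase

variable {X : Type u} [TopologicalSpace X] [CompactSpace X] [T2Space X] [TotallyDisconnectedSpace X]

/-- On a profinite space epimorphisms are surjective on global sections. -/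
theorem surjective_top {F G : AbSh X} (g : F ⟶ G) [Epi g] :
    Function.Surjective (g.hom.app (op (⊤ : Opens X))) := by
  intro s
  haveI : Sheaf.IsLocallySurjective g :=
    (Sheaf.isLocallySurjective_iff_epi' AddCommGrpCat.{u} g).mpr inferInstance
  have hloc : ∀ x : X, ∃ (V : Opens X), x ∈ V ∧ ∃ t, g.hom.app (op V) t = res G.obj le_top s := by
    intro x
    obtain ⟨V, j, ⟨t, ht⟩, hxV⟩ := Presheaf.imageSieve_mem (Opens.grothendieckTopology X) g.hom
      (U := op ⊤) s x trivial
    exact ⟨V, hxV, t, ht⟩
  choose V hxV t ht using hloc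
  have hcov : IsOpenCover V := eq_top_iff.2 fun x _ => Opens.mem_iSup.2 ⟨x, hxV x⟩
  obtain ⟨n, W, hW, hWcov, hWd⟩ := hcov.exists_finite_nonempty_disjoint_clopen_cover
  choose k hk using fun j => (hW j).2
  let O : Fin n → Opens X := fun j => ⟨W j, (W j).isClopen.isOpen⟩
  have hO : ∀ j, O j ≤ V (k j) := fun j => hk j
  obtain ⟨r, hr⟩ := sheaf_glue F (W := ⊤) (V := O) (fun _ => le_top)
    (fun x _ => Opens.mem_iSup.2 (Set.mem_iUnion.1 (hWcov (Set.mem_univ x))))
    (fun j => res F.obj (hO j) (t (k j))) fun a b => by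
      by_cases hab : a = b
      · subst hab; rfl
      · refine sheaf_ext F (κ := PEmpty.{1}) (V := fun i => i.elim) (fun i => i.elim) ?_ fun i => i.elim
        intro x hx
        exact absurd hx.2 fun hb => (Set.disjoint_left.1
          (Clopens.coe_disjoint.2 (hWd hab)) hx.1 hb).elim
  refine ⟨r, sheaf_ext G (V := O) (fun _ => le_top)
    (fun x _ => Opens.mem_iSup.2 (Set.mem_iUnion.1 (hWcov (Set.mem_univ x)))) fun j => ?_⟩
  rw [res_map, hr, ← res_map, ht, res_res]

/-- Sheaves on profinite spaces have no higher cohomology. -/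
theorem subsingleton_HU_top : ∀ (p : ℕ) (F : AbSh X), Subsingleton (HU (⊤ : Opens X) F (p + 1))
  | 0, F => by
    haveI : Subsingleton (HU (⊤ : Opens X) (injSeq F).X₂ 1) := subsingleton_of_injective _ _ 0
    haveI := (injSeq_shortExact F).epi_g
    exact subsingleton_one_of_surjective (injSeq_shortExact F) ⊤ (surjective_top (injSeq F).g)
  | p + 1, F => by
    haveI : Subsingleton (HU (⊤ : Opens X) (injSeq F).X₂ (p + 1 + 1)) :=
      subsingleton_of_injective _ _ (p + 1)
    haveI : Subsingleton (HU (⊤ : Opens X) (injSeq F).X₃ (p + 1)) := subsingleton_HU_top p _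
    exact subsingleton_shift (injSeq_shortExact F) ⊤ (p + 1)

end Groth.Agent.ProfiniteCoh
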